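import Mathlib

/-!
Helper lemmas (helper14): the conormal sequence `I/I² → J/J² → C ⊗_B Ω_{B/A}` for ring maps
`A → B → C` with `A → C` surjective (`I = ker(A → C)`, `J = ker(B → C)`) is exact.
-/

universe u

open TensorProduct KaehlerDifferential

namespace Groth.Agent.Lib.Helper14.Conormal

variable (A B C : Type u) [CommRing A] [CommRing B] [CommRing C] [Algebra A B] [Algebra B C]
  [Algebra A C] [IsScalarTower A B C]

theorem exact_mapCotangent_kerCotangentToTensor (hAC : Function.Surjective (algebraMap A C))
    (h : RingHom.ker (algebraMap A C) ≤ (RingHom.ker (algebraMap B C)).comap (Algebra.ofId A B)) :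
    Function.Exact
      (Ideal.mapCotangent (RingHom.ker (algebraMap A C)) (RingHom.ker (algebraMap B C))
        (Algebra.ofId A B) h)
      (KaehlerDifferential.kerCotangentToTensor A B C) := by
  classical
  set I := RingHom.ker (algebraMap A C) with hIdef
  set J := RingHom.ker (algebraMap B C) with hJdef
  set φ := Ideal.mapCotangent I J (Algebra.ofId A B) h with hφdef
  have hlift : ∀ b : B, ∃ a : A, algebraMap A C a = algebraMap B C b := fun b => hAC _
  choose σ hσ using hlift
  have hmemJ : ∀ b : B, b - algebraMap A B (σ b) ∈ J := by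
    intro b
    simp only [J, RingHom.mem_ker, map_sub, ← IsScalarTower.algebraMap_apply, hσ, sub_self]
  have hmemI : ∀ a : A, algebraMap A B a ∈ J → a ∈ I := by
    intro a ha
    simpa only [I, J, RingHom.mem_ker, ← IsScalarTower.algebraMap_apply] using ha
  -- J kills the cotangent module
  have hkill : ∀ j ∈ J, ∀ c : J.Cotangent, j • c = 0 := fun j hj c =>
    Ideal.Cotangent.smul_eq_zero_of_mem hj c
  -- the range of φ is stable under B
  have hrange_smul : ∀ (b : B) (y : J.Cotangent), y ∈ Set.range φ → b • y ∈ Set.range φ := by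
    rintro b y ⟨x, rfl⟩
    refine ⟨σ b • x, ?_⟩
    have hb : b = (b - algebraMap A B (σ b)) + algebraMap A B (σ b) := by ring
    conv_rhs => rw [hb, add_smul, hkill _ (hmemJ b), zero_add, algebraMap_smul]
    rw [map_smul]
  let K : Submodule B J.Cotangent := Submodule.span B (Set.range φ)
  have hK : ∀ y ∈ K, y ∈ Set.range φ := by
    intro y hy
    induction hy using Submodule.span_induction with
    | mem x hx => exact hx
    | zero => exact ⟨0, map_zero _⟩
    | add x y _ _ hx hy =>
      obtain ⟨x', rfl⟩ := hx
      obtain ⟨y', rfl⟩ := hy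
      exact ⟨x' + y', map_add _ _ _⟩
    | smul b x _ hx => exact hrange_smul b x hx
  have hKmem : ∀ (a : A) (ha : algebraMap A B a ∈ J), J.toCotangent ⟨_, ha⟩ ∈ K := by
    intro a ha
    apply Submodule.subset_span
    exact ⟨I.toCotangent ⟨a, hmemI a ha⟩, rfl⟩
  let M := J.Cotangent ⧸ K
  let δ : B → M := fun b => Submodule.Quotient.mk (J.toCotangent ⟨_, hmemJ b⟩)
  have hδ : ∀ (b : B) (a : A) (hb : b - algebraMap A B a ∈ J),
      δ b = Submodule.Quotient.mk (J.toCotangent ⟨_, hb⟩) := by
    intro b a hb
    rw [← sub_eq_zero, ← Submodule.Quotient.mk_sub, Submodule.Quotient.mk_eq_zero, ← map_sub]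
    have hmem : algebraMap A B (a - σ b) ∈ J := by
      have := J.sub_mem (hmemJ b) hb
      convert this using 1
      simp only [map_sub]; ring
    have : (⟨_, hmemJ b⟩ - ⟨_, hb⟩ : J) = ⟨algebraMap A B (a - σ b), hmem⟩ := by
      ext; simp only [Submodule.coe_sub, map_sub]; ring
    rw [this]
    exact hKmem _ hmem
  have hkillM : ∀ j ∈ J, ∀ m : M, j • m = 0 := by
    intro j hj m
    induction m using Submodule.Quotient.induction_on with
    | H c => rw [← Submodule.Quotient.mk_smul, hkill j hj c, Submodule.Quotient.mk_zero]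
  -- the derivation
  let Dl : B →ₗ[A] M :=
    { toFun := δ
      map_add' := by
        intro x y
        have hxy : (x + y) - algebraMap A B (σ x + σ y) ∈ J := by
          have := J.add_mem (hmemJ x) (hmemJ y)
          convert this using 1; simp only [map_add]; ring
        rw [hδ (x + y) (σ x + σ y) hxy, ← Submodule.Quotient.mk_add, ← map_add]
        congr 2
        ext; simp only [Submodule.coe_add, map_add]; ring
      map_smul' := by
        intro r x
        have hrx : r • x - algebraMap A B (r * σ x) ∈ J := by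
          have := J.mul_mem_left (algebraMap A B r) (hmemJ x)
          convert this using 1; rw [Algebra.smul_def, map_mul]; ring
        rw [hδ (r • x) (r * σ x) hrx, RingHom.id_apply, ← algebraMap_smul B r (δ x),
          ← Submodule.Quotient.mk_smul, ← map_smul]
        congr 2
        ext
        simp only [SetLike.val_smul, Algebra.smul_def, map_mul, smul_eq_mul,
          Algebra.algebraMap_self, RingHom.id_apply]
        ring }
  have hDl : ∀ b, Dl b = δ b := fun _ => rfl
  let D' : Derivation A B M := Derivation.mk' Dl (by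
    intro x y
    rw [hDl, hDl, hDl]
    have hxy : x * y - algebraMap A B (σ x * σ y) ∈ J := by
      have h1 := J.mul_mem_left x (hmemJ y)
      have h2 := J.mul_mem_left (algebraMap A B (σ y)) (hmemJ x)
      have := J.add_mem h1 h2
      convert this using 1; simp only [map_mul]; ring
    rw [hδ (x * y) (σ x * σ y) hxy]
    -- x • δ y + y • δ x
    have e1 : x • δ y = Submodule.Quotient.mk (J.toCotangent (x • ⟨_, hmemJ y⟩)) := by
      rw [map_smul, Submodule.Quotient.mk_smul]
    have hy' : y = (y - algebraMap A B (σ y)) + algebraMap A B (σ y) := by ring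
    have e2 : y • δ x = (algebraMap A B (σ y)) • δ x := by
      conv_lhs => rw [hy', add_smul, hkillM _ (hmemJ y), zero_add]
    rw [e1, e2, ← Submodule.Quotient.mk_smul, ← map_smul, ← Submodule.Quotient.mk_add, ← map_add]
    congr 2
    ext
    simp only [Submodule.coe_add, SetLike.val_smul, smul_eq_mul, map_mul]
    ring)
  let L : Ω[B⁄A] →ₗ[B] M := D'.liftKaehlerDifferential
  have hL : ∀ b, L (KaehlerDifferential.D A B b) = δ b := fun b => by
    simp only [L, Derivation.liftKaehlerDifferential_comp_D]; rfl
  -- the map B ⊗ Ω → M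
  let Ψ : B ⊗[B] Ω[B⁄A] →ₗ[B] M := L ∘ₗ (TensorProduct.lid B (Ω[B⁄A])).toLinearMap
  have hΨ : ∀ z ∈ Set.range ((J.subtype).rTensor (Ω[B⁄A])), Ψ z = 0 := by
    rintro _ ⟨z, rfl⟩
    induction z using TensorProduct.induction_on with
    | zero => simp
    | tmul j ω =>
      simp only [Ψ, LinearMap.rTensor_tmul, LinearMap.coe_comp, LinearEquiv.coe_coe,
        Function.comp_apply, TensorProduct.lid_tmul, Submodule.subtype_apply, map_smul]
      exact hkillM _ j.2 _
    | add x y hx hy => simp only [map_add, hx, hy, add_zero]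
  have hexact := rTensor_exact (Ω[B⁄A]) (f := J.subtype)
    (g := (Algebra.linearMap B C)) (by
      intro x
      simp only [Algebra.linearMap_apply, Set.mem_range, Submodule.subtype_apply]
      constructor
      · intro hx; exact ⟨⟨x, hx⟩, rfl⟩
      · rintro ⟨y, rfl⟩; exact y.2)
    (by
      intro c
      obtain ⟨a, rfl⟩ := hAC c
      exact ⟨algebraMap A B a, by simp [← IsScalarTower.algebraMap_apply]⟩)
  intro y
  constructor
  · intro hy
    obtain ⟨j, rfl⟩ := J.toCotangent_surjective y
    rw [kerCotangentToTensor_toCotangent] at hy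
    have h1 : (1 : B) ⊗ₜ[B] KaehlerDifferential.D A B j.1 ∈
        Set.range ((J.subtype).rTensor (Ω[B⁄A])) := by
      rw [← (hexact _)]
      simpa [LinearMap.rTensor_tmul] using hy
    have h2 := hΨ _ h1
    simp only [Ψ, LinearMap.coe_comp, LinearEquiv.coe_coe, Function.comp_apply,
      TensorProduct.lid_tmul, one_smul, hL] at h2
    have hj0 : j.1 - algebraMap A B 0 ∈ J := by simpa using j.2
    rw [hδ j.1 0 hj0, Submodule.Quotient.mk_eq_zero] at h2
    have : (⟨_, hj0⟩ : J) = j := by ext; simp
    rw [this] at h2
    exact hK _ h2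
  · rintro ⟨x, rfl⟩
    obtain ⟨a, rfl⟩ := I.toCotangent_surjective x
    rw [hφdef, Ideal.mapCotangent_toCotangent, kerCotangentToTensor_toCotangent]
    simp

/-- If `D : Derivation A B M` takes values in a `B`-module killed by `J = ker(B → C)` and agrees on
`J` with a map `θ` out of `J/J²`, then `θ` kills the kernel of `J/J² → C ⊗_B Ω_{B/A}`. -/
theorem apply_eq_zero_of_kerCotangentToTensor_eq_zero
    (hBC : Function.Surjective (algebraMap B C))
    {M : Type u} [AddCommGroup M] [Module B M] [Module A M] [IsScalarTower A B M]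
    (hkill : ∀ j ∈ RingHom.ker (algebraMap B C), ∀ m : M, j • m = 0)
    (D : Derivation A B M) (θ : (RingHom.ker (algebraMap B C)).Cotangent → M)
    (hθ : ∀ j : RingHom.ker (algebraMap B C), D j.1 = θ ((RingHom.ker (algebraMap B C)).toCotangent j))
    (y : (RingHom.ker (algebraMap B C)).Cotangent)
    (hy : KaehlerDifferential.kerCotangentToTensor A B C y = 0) : θ y = 0 := by
  classical
  let L : Ω[B⁄A] →ₗ[B] M := D.liftKaehlerDifferential
  have hL : ∀ b, L (KaehlerDifferential.D A B b) = D b := fun b => by
    simp only [L, Derivation.liftKaehlerDifferential_comp_D]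
  let Ψ : B ⊗[B] Ω[B⁄A] →ₗ[B] M := L ∘ₗ (TensorProduct.lid B (Ω[B⁄A])).toLinearMap
  have hΨ : ∀ z ∈ Set.range (((RingHom.ker (algebraMap B C)).subtype).rTensor (Ω[B⁄A])), Ψ z = 0 := by
    rintro _ ⟨z, rfl⟩
    induction z using TensorProduct.induction_on with
    | zero => simp
    | tmul j ω =>
      simp only [Ψ, LinearMap.rTensor_tmul, LinearMap.coe_comp, LinearEquiv.coe_coe,
        Function.comp_apply, TensorProduct.lid_tmul, Submodule.subtype_apply, map_smul]
      exact hkill _ j.2 _
    | add x y hx hy => simp only [map_add, hx, hy, add_zero]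
  have hexact := rTensor_exact (Ω[B⁄A]) (f := (RingHom.ker (algebraMap B C)).subtype)
    (g := (Algebra.linearMap B C)) (by
      intro x
      simp only [Algebra.linearMap_apply, Set.mem_range, Submodule.subtype_apply]
      constructor
      · intro hx; exact ⟨⟨x, hx⟩, rfl⟩
      · rintro ⟨y, rfl⟩; exact y.2)
    hBC
  obtain ⟨j, hj⟩ := (RingHom.ker (algebraMap B C)).toCotangent_surjective y
  have hy' : KaehlerDifferential.kerCotangentToTensor A B C ((RingHom.ker (algebraMap B C)).toCotangent j) = 0 := by
    rw [hj]; exact hy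
  rw [kerCotangentToTensor_toCotangent] at hy'
  have h1 : (1 : B) ⊗ₜ[B] KaehlerDifferential.D A B j.1 ∈
      Set.range (((RingHom.ker (algebraMap B C)).subtype).rTensor (Ω[B⁄A])) := by
    rw [← (hexact _)]
    simpa [LinearMap.rTensor_tmul] using hy'
  have h2 := hΨ _ h1
  simp only [Ψ, LinearMap.coe_comp, LinearEquiv.coe_coe, Function.comp_apply,
    TensorProduct.lid_tmul, one_smul, hL] at h2
  rw [← hj, ← hθ]
  exact h2

end Groth.Agent.Lib.Helper14.Conormal
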